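import Cfsg.Agent.Lib.OneOrder.Regular
import Cfsg.Agent.Lib.Char.Clifford
import Cfsg.Agent.Lib.Char.ItoPSolvable
import Mathlib.GroupTheory.FiniteAbelian.Duality
import Mathlib.Analysis.Complex.Polynomial.Basic

/-!
# Vanishing elements from regular linear characters of abelian normal subgroups
-/

set_option autoImplicit false
set_option linter.style.haveILetI false
set_option linter.unusedSectionVars false

namespace Cfsg.Agent.OneOrder

open Cfsg.Agent.Char

universe u

variable {G : Type u} [Group G]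

/-- Some irreducible character vanishes at `x`. -/
def Van (x : G) : Prop := ∃ χ : Cfsg.IrrCharacter G, (χ : G → ℂ) x = 0

theorem Van.of_map {H : Type u} [Group H] (f : G →* H) (hf : Function.Surjective f) {x : G}
    (h : Van (f x)) : Van x :=
  let ⟨χ, hχ⟩ := h
  ⟨⟨_, IsIrrCharacter.comp χ.2 f hf⟩, hχ⟩

variable (K : Subgroup G) [K.Normal]

/-- Conjugation on the linear characters of a normal subgroup. -/
noncomputable def dualConj : G →* MulAut (↥K →* ℂˣ) where
  toFun g :=
    { toFun := fun f => f.comp (MulAut.conjNormal (H := K) g⁻¹).toMonoidHom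
      invFun := fun f => f.comp (MulAut.conjNormal (H := K) g).toMonoidHom
      left_inv := fun f => MonoidHom.ext fun k => congrArg f (Subtype.ext (by
        simp [mul_assoc]))
      right_inv := fun f => MonoidHom.ext fun k => congrArg f (Subtype.ext (by
        simp [mul_assoc]))
      map_mul' := fun f f' => rfl }
  map_one' := MulEquiv.ext fun f => MonoidHom.ext fun k => congrArg f (Subtype.ext (by simp))
  map_mul' g g' := MulEquiv.ext fun f => MonoidHom.ext fun k => congrArg f (Subtype.ext (by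
    simp [mul_assoc]))

theorem dualConj_apply (g : G) (f : ↥K →* ℂˣ) (k : ↥K) :
    dualConj K g f k = f (MulAut.conjNormal (H := K) g⁻¹ k) := rfl

variable [Finite G]

/-- The conjugates of `x` move the linear character, so an induced character vanishes at `x`. -/
theorem van_of_conj_moves (f : ↥K →* ℂˣ) (x : G)
    (h : ∀ g : G, dualConj K (g⁻¹ * x * g) f ≠ f) : Van x := by
  classical
  haveI := Fintype.ofFinite G
  haveI := Fintype.ofFinite ↥K
  have hθ : Cfsg.IsIrrCharacter ↥K (fun k => (f k : ℂ)) := isIrrCharacter_linear f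
  set T := inertia K (fun k => (f k : ℂ)) with hT
  haveI := Fintype.ofFinite ↥T
  obtain ⟨χ, hχ⟩ := Ito.exists_above K ⟨_, hθ⟩
  obtain ⟨ψ, -, hind, -⟩ := clifford_correspondence_surjective K hθ hT
    (le_inertia K (IsCharacter.isClassFunction (IsIrrCharacter.isCharacter hθ))) χ.2 hχ
  refine ⟨χ, ?_⟩
  rw [← hind]
  show (Nat.card T : ℂ)⁻¹ * ∑ g : G, Cfsg.extendByZero T ψ (g⁻¹ * x * g) = 0
  refine mul_eq_zero_of_right _ (Finset.sum_eq_zero fun g _ => extendByZero_not_mem T ψ ?_)
  intro hg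
  refine h g (MonoidHom.ext fun k => ?_)
  set t := g⁻¹ * x * g
  have h1 := Units.ext ((mem_inertia_iff K).1 hg (MulAut.conjNormal (H := K) t⁻¹ k))
  rw [dualConj_apply, ← h1]
  exact congrArg f (Subtype.ext (by simp [mul_assoc]))

theorem finite_dual (hK : ∀ a ∈ K, ∀ b ∈ K, a * b = b * a) : Finite (↥K →* ℂˣ) := by
  letI : CommGroup ↥K :=
    { (inferInstance : Group ↥K) with mul_comm := fun a b => Subtype.ext (hK a a.2 b b.2) }
  exact Finite.of_equiv _
    (CommGroup.monoidHom_mulEquiv_of_hasEnoughRootsOfUnity ↥K ℂ).some.toEquiv.symm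

theorem card_dual (hK : ∀ a ∈ K, ∀ b ∈ K, a * b = b * a) :
    Nat.card (↥K →* ℂˣ) = Nat.card ↥K := by
  letI : CommGroup ↥K :=
    { (inferInstance : Group ↥K) with mul_comm := fun a b => Subtype.ext (hK a a.2 b b.2) }
  exact CommGroup.card_monoidHom_of_hasEnoughRootsOfUnity ↥K ℂ

/-- A regular linear character makes every root of a moving element vanishing. -/
theorem van_of_regular (hK : ∀ a ∈ K, ∀ b ∈ K, a * b = b * a)
    (H : Subgroup (MulAut (↥K →* ℂˣ)))
    (hnorm : ∀ g : G, ∀ a ∈ H, dualConj K g * a * (dualConj K g)⁻¹ ∈ H) (f : ↥K →* ℂˣ)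
    (hreg : ∀ a ∈ H, a f = f → a = 1) (x : G) (i : ℕ) (hi : dualConj K (x ^ i) ∈ H)
    (hne : dualConj K (x ^ i) ≠ 1) : Van x := by
  haveI := finite_dual K hK
  refine van_of_conj_moves K f x fun g hg => hne ?_
  have h1 := fixed_pow (V := ↥K →* ℂˣ) (y := dualConj K (g⁻¹ * x * g)) (w := f) hg i
  have e : dualConj K (g⁻¹ * x * g) ^ i =
      dualConj K g⁻¹ * dualConj K (x ^ i) * (dualConj K g⁻¹)⁻¹ := by
    rw [← map_inv, inv_inv, ← map_mul, ← map_mul, ← map_pow]
    congr 1
    conv_lhs => rw [show g⁻¹ * x * g = g⁻¹ * x * g⁻¹⁻¹ by rw [inv_inv], conj_pow, inv_inv]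
  rw [e] at h1
  have h2 := hreg _ (hnorm g⁻¹ _ hi) h1
  rwa [mul_inv_eq_one, mul_eq_left] at h2

/-- The kernel of the dual action is the centraliser. -/
theorem eq_of_dualConj_eq_one (hK : ∀ a ∈ K, ∀ b ∈ K, a * b = b * a) {g : G}
    (h : dualConj K g = 1) {k : G} (hk : k ∈ K) : g * k = k * g := by
  letI : CommGroup ↥K :=
    { (inferInstance : Group ↥K) with mul_comm := fun a b => Subtype.ext (hK a a.2 b b.2) }
  have h1 : MulAut.conjNormal (H := K) g⁻¹ ⟨k, hk⟩ = ⟨k, hk⟩ :=
    (CommGroup.forall_apply_eq_apply_iff ↥K (M := ℂ)).1 fun f =>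
      (dualConj_apply K g f ⟨k, hk⟩).symm.trans (by rw [h]; rfl)
  have h2 := congrArg Subtype.val h1
  rw [MulAut.conjNormal_apply, inv_inv] at h2
  calc g * k = g * (g⁻¹ * k * g) := by rw [h2]
    _ = k * g := by group

theorem dualConj_eq_one_of_comm {g : G} (h : ∀ k ∈ K, g * k = k * g) : dualConj K g = 1 :=
  MulEquiv.ext fun f => MonoidHom.ext fun k => congrArg f (Subtype.ext (by
    show g⁻¹ * (k : G) * g⁻¹⁻¹ = k
    rw [inv_inv, mul_assoc, ← h k k.2, inv_mul_cancel_left]))

/-- A fixed-point-free element is fixed-point-free on the characters. -/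
theorem dual_fpf (hK : ∀ a ∈ K, ∀ b ∈ K, a * b = b * a) {g : G}
    (h : ∀ k ∈ K, g * k = k * g → k = 1) {f : ↥K →* ℂˣ} (hf : dualConj K g f = f) : f = 1 := by
  letI : CommGroup ↥K :=
    { (inferInstance : Group ↥K) with mul_comm := fun a b => Subtype.ext (hK a a.2 b b.2) }
  let ψ : ↥K →* ↥K := (MulAut.conjNormal (H := K) g⁻¹).toMonoidHom / MonoidHom.id ↥K
  have hψ : Function.Injective ψ := (injective_iff_map_eq_one ψ).2 fun a ha => by
    have h1 : MulAut.conjNormal (H := K) g⁻¹ a = a := div_eq_one.1 ha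
    have h2 := congrArg Subtype.val h1
    rw [MulAut.conjNormal_apply, inv_inv] at h2
    refine Subtype.ext (h a a.2 ?_)
    calc g * a = g * (g⁻¹ * a * g) := by rw [h2]
      _ = a * g := by group
  refine MonoidHom.ext fun k => ?_
  obtain ⟨a, rfl⟩ := Finite.surjective_of_injective hψ k
  show f (MulAut.conjNormal (H := K) g⁻¹ a / a) = 1
  rw [map_div, div_eq_one]
  exact DFunLike.congr_fun hf a

end Cfsg.Agent.OneOrder
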