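import Cfsg.Agent.Lib.OneOrder.Dual
import Cfsg.Agent.Lib.Solvable.Basic
import Mathlib.GroupTheory.Sylow

/-!
# Minimal normal `p`-subgroups modulo the `p'`-core act without fixed points on it
-/

set_option autoImplicit false
set_option linter.style.haveILetI false
set_option linter.unusedSectionVars false

namespace Cfsg.Agent.OneOrder

universe u

variable {p : ℕ} [hp : Fact p.Prime] {Q : Type u} [Group Q] [Finite Q] (N : Subgroup Q) [N.Normal]

theorem eq_one_of_coprime (hN : (Nat.card ↥N).Coprime p) {a : Q} {k : ℕ} (ha : a ∈ N)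
    (h : a ^ p ^ k = 1) : a = 1 :=
  orderOf_eq_one_iff.1 (Nat.eq_one_of_dvd_coprimes (hN.pow_right k)
    (by rw [← Subgroup.orderOf_mk a ha]; exact orderOf_dvd_natCard _)
    (orderOf_dvd_of_pow_eq_one h))

/-- A Sylow subgroup of the preimage of a normal `p`-subgroup of the quotient. -/
theorem sylow_over (hN : (Nat.card ↥N).Coprime p) (Ub : Subgroup (Q ⧸ N)) [Ub.Normal]
    (hUb : IsPGroup p ↥Ub) (e : Q) (he : e ^ p = 1) (heU : QuotientGroup.mk' N e ∈ Ub) :
    ∃ P0 : Subgroup Q, e ∈ P0 ∧ IsPGroup p ↥P0 ∧ (∀ a ∈ P0, QuotientGroup.mk' N a ∈ Ub) ∧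
      (∀ a ∈ P0, a ∈ N → a = 1) ∧ (∀ u ∈ Ub, ∃ a ∈ P0, QuotientGroup.mk' N a = u) ∧
      (∀ g : Q, ∃ n ∈ N, ∃ m : Q, g = n * m ∧ ∀ a ∈ P0, m * a * m⁻¹ ∈ P0) := by
  set U := Ub.comap (QuotientGroup.mk' N) with hU
  have hzp : IsPGroup p ↥(Subgroup.zpowers (⟨e, heU⟩ : ↥U)) := by
    rintro ⟨x, hx⟩
    obtain ⟨k, rfl⟩ := Subgroup.mem_zpowers_iff.1 hx
    refine ⟨1, Subtype.ext (Subtype.ext ?_)⟩
    show (e ^ k) ^ p ^ 1 = 1
    rw [pow_one, ← zpow_natCast, ← zpow_mul, mul_comm, zpow_mul, zpow_natCast, he, one_zpow]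
  obtain ⟨S, hS⟩ := hzp.exists_le_sylow
  set P0 := (S : Subgroup ↥U).map U.subtype with hP0
  have hP0p : IsPGroup p ↥P0 := S.2.map _
  have hinj : ∀ a ∈ P0, a ∈ N → a = 1 := by
    intro a ha haN
    obtain ⟨k, hk⟩ := hP0p ⟨a, ha⟩
    exact eq_one_of_coprime N hN haN (congrArg Subtype.val hk)
  let f : ↥U →* ↥Ub :=
    { toFun := fun x => ⟨QuotientGroup.mk' N x, x.2⟩
      map_one' := rfl
      map_mul' := fun x y => rfl }
  have hf : Function.Surjective f := fun u => by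
    obtain ⟨x, hx⟩ := QuotientGroup.mk'_surjective N u.1
    exact ⟨⟨x, show QuotientGroup.mk' N x ∈ Ub by rw [hx]; exact u.2⟩, Subtype.ext hx⟩
  have htop : (S : Subgroup ↥U).map f = ⊤ := by
    have h1 := S.mapSurjective hf
    obtain ⟨T, hT⟩ : ∃ T : Sylow p ↥Ub, (T : Subgroup ↥Ub) = (S : Subgroup ↥U).map f :=
      ⟨S.mapSurjective hf, rfl⟩
    rw [← hT]
    exact (T.is_maximal' (hUb.to_subgroup ⊤) le_top).symm
  refine ⟨P0, ⟨⟨e, heU⟩, hS (Subgroup.mem_zpowers _), rfl⟩, hP0p, ?_, hinj, ?_, ?_⟩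
  · rintro _ ⟨a, -, rfl⟩
    exact a.2
  · intro u hu
    obtain ⟨a, ha, he2⟩ : (⟨u, hu⟩ : ↥Ub) ∈ (S : Subgroup ↥U).map f := htop ▸ Subgroup.mem_top _
    exact ⟨a, ⟨a, ha, rfl⟩, congrArg Subtype.val he2⟩
  · intro g
    haveI : U.Normal := Subgroup.Normal.comap inferInstance _
    have hsup : N ⊔ Subgroup.normalizer (P0 : Set Q) = ⊤ := by
      rw [eq_top_iff, ← Sylow.normalizer_sup_eq_top S, sup_le_iff]
      refine ⟨le_sup_right, fun x hx => ?_⟩
      obtain ⟨a, ha, he2⟩ : (⟨_, hx⟩ : ↥Ub) ∈ (S : Subgroup ↥U).map f := htop ▸ Subgroup.mem_top _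
      have hn : x * (a : Q)⁻¹ ∈ N := by
        rw [← QuotientGroup.eq_one_iff]
        show QuotientGroup.mk' N (x * (a : Q)⁻¹) = 1
        rw [map_mul, map_inv, show QuotientGroup.mk' N (a : Q) = QuotientGroup.mk' N x from
          congrArg Subtype.val he2, mul_inv_cancel]
      have := Subgroup.mul_mem_sup hn
        (Subgroup.le_normalizer (show (a : Q) ∈ P0 from ⟨a, ha, rfl⟩) :
          (a : Q) ∈ Subgroup.normalizer (P0 : Set Q))
      rwa [inv_mul_cancel_right] at this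
    obtain ⟨n, hn, m, hm, hg⟩ := Subgroup.mem_sup_of_normal_left.1 (hsup ▸ Subgroup.mem_top g)
    exact ⟨n, hn, m, hg.symm, fun a ha => (Subgroup.mem_normalizer_iff.1 hm a).1 ha⟩

/-- All vanishing elements of order divisible by `p` are `p`-elements once one of them is. -/
def H1 (p : ℕ) (Q : Type u) [Group Q] : Prop :=
  ∀ x y : Q, Van x → Van y → p ∣ orderOf x → y ^ p = 1 → y ≠ 1 → ∃ k : ℕ, x ^ p ^ k = 1

/-- A vanishing element of order `p` has no vanishing translate by a commuting `p'`-element. -/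
theorem eq_one_of_van (h1 : H1 p Q) (hN : (Nat.card ↥N).Coprime p) {t f : Q} (ht : t ^ p = 1)
    (ht1 : t ≠ 1) (hf : f ∈ N) (hc : Commute t f) (hvt : Van t) (hvtf : Van (t * f)) : f = 1 := by
  have hto : orderOf t = p := orderOf_eq_prime ht ht1
  have hfo : (orderOf f).Coprime p := hN.coprime_dvd_left
    (by rw [← Subgroup.orderOf_mk f hf]; exact orderOf_dvd_natCard _)
  have hd : p ∣ orderOf (t * f) := by
    rw [hc.orderOf_mul_eq_mul_orderOf_of_coprime (by rw [hto]; exact hfo.symm), hto]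
    exact dvd_mul_right _ _
  obtain ⟨k, hk⟩ := h1 _ _ hvtf hvt hd ht ht1
  rw [hc.mul_pow] at hk
  have h2 : (f ^ p ^ k) ^ p = 1 := by
    rw [← inv_eq_iff_mul_eq_one.2 hk |>.trans rfl, inv_pow, ← pow_mul, mul_comm, pow_mul, ht,
      one_pow, inv_one]
  exact eq_one_of_coprime N hN hf (k := k + 1) (by rw [pow_succ, pow_mul]; exact h2)

variable [hsolv : Group.IsSolvable Q]

include hsolv in
/-- A minimal normal `p`-subgroup of the quotient by a normal `p'`-subgroup acts without fixed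
points on that subgroup. -/
theorem fpf (hQ : Cfsg.pCore p Q = ⊥) (h1 : H1 p Q) (hN : (Nat.card ↥N).Coprime p)
    (Ub : Subgroup (Q ⧸ N)) [Ub.Normal]
    (hmin : ∀ K : Subgroup (Q ⧸ N), K.Normal → K ≤ Ub → K = ⊥ ∨ K = Ub)
    (hexp : ∀ u ∈ Ub, u ^ p = 1) (hcomm : ∀ a ∈ Ub, ∀ b ∈ Ub, a * b = b * a)
    (e : Q) (he : e ^ p = 1) (he1 : e ≠ 1) (heU : QuotientGroup.mk' N e ∈ Ub) :
    ∀ f ∈ N, e * f = f * e → f = 1 := by
  classical
  have hUp : IsPGroup p ↥Ub := fun u => ⟨1, by rw [pow_one]; exact Subtype.ext (hexp _ u.2)⟩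
  obtain ⟨P0, heP, hP0p, hP0U, hinj, -, hfrat⟩ := sylow_over N hN Ub hUp e he heU
  have hPexp : ∀ a ∈ P0, a ^ p = 1 := fun a ha => hinj _ (P0.pow_mem ha p) (by
    rw [← QuotientGroup.eq_one_iff]
    show QuotientGroup.mk' N (a ^ p) = 1
    rw [map_pow, hexp _ (hP0U a ha)])
  have hPcomm : ∀ a ∈ P0, ∀ b ∈ P0, a * b = b * a := fun a ha b hb => by
    have h := hinj (a * b * (b * a)⁻¹) (P0.mul_mem (P0.mul_mem ha hb) (P0.inv_mem (P0.mul_mem hb ha))) (by
      rw [← QuotientGroup.eq_one_iff]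
      show QuotientGroup.mk' N _ = 1
      rw [map_mul, map_inv, map_mul, map_mul, hcomm _ (hP0U a ha) _ (hP0U b hb), mul_inv_cancel])
    exact mul_inv_eq_one.1 h
  -- the smallest normal subgroup with trivial action on the quotient
  set S0 : Set Q := {c | ∃ n ∈ N, ∃ a ∈ P0, n * a * n⁻¹ * a⁻¹ = c} with hS0
  set D := Subgroup.normalClosure S0 with hD
  have hDN : D ≤ N := Subgroup.normalClosure_le_normal (by
    rintro _ ⟨n, hn, a, -, rfl⟩
    rw [show n * a * n⁻¹ * a⁻¹ = n * (a * n⁻¹ * a⁻¹) by group]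
    exact N.mul_mem hn (Subgroup.Normal.conj_mem inferInstance _ (N.inv_mem hn) a))
  have hD0 : D ≠ ⊥ := by
    intro h
    have hc : ∀ n ∈ N, ∀ a ∈ P0, n * a * n⁻¹ = a := fun n hn a ha => by
      have : n * a * n⁻¹ * a⁻¹ ∈ D := Subgroup.subset_normalClosure ⟨n, hn, a, ha, rfl⟩
      rw [h, Subgroup.mem_bot, mul_inv_eq_one] at this
      exact this
    have hn : P0.Normal := ⟨fun a ha g => by
      obtain ⟨n, hn, m, rfl, hm⟩ := hfrat g
      rw [show n * m * a * (n * m)⁻¹ = n * (m * a * m⁻¹) * n⁻¹ by group, hc n hn _ (hm a ha)]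
      exact hm a ha⟩
    have : P0 ≤ Cfsg.pCore p Q := le_sSup ⟨hn, hP0p⟩
    exact he1 (Subgroup.mem_bot.1 (hQ ▸ this heP))
  obtain ⟨L, ⟨hLn, hLD⟩, hLmax⟩ := (Set.toFinite {L : Subgroup Q | L.Normal ∧ L < D}).exists_maximal
    ⟨⊥, inferInstance, bot_lt_iff_ne_bot.2 hD0⟩
  haveI := hLn
  set π := QuotientGroup.mk' L with hπ
  set V := D.map π with hV
  haveI hVn : V.Normal := Subgroup.Normal.map inferInstance _ (QuotientGroup.mk'_surjective L)
  have hVmin : ∀ W : Subgroup (Q ⧸ L), W.Normal → W ≤ V → W = ⊥ ∨ W = V := by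
    intro W hW hWV
    have h1 : W.comap π ≤ D := by
      refine (Subgroup.comap_mono hWV).trans ?_
      rw [hV, Subgroup.comap_map_eq, hπ, QuotientGroup.ker_mk']
      exact sup_le le_rfl hLD.le
    have h2 : L ≤ W.comap π := fun x hx => by
      show π x ∈ W
      rw [hπ, QuotientGroup.mk'_apply, (QuotientGroup.eq_one_iff x).2 hx]
      exact W.one_mem
    have h3 : (W.comap π).map π = W :=
      Subgroup.map_comap_eq_self_of_surjective (QuotientGroup.mk'_surjective L) W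
    rcases eq_or_lt_of_le h1 with h | h
    · right; rw [← h3, h]
    · left
      rw [← h3, le_antisymm (hLmax ⟨hW.comap π, h⟩ h2) h2, hπ, Subgroup.map_eq_bot_iff,
        QuotientGroup.ker_mk']
  have hV0 : V ≠ ⊥ := fun h => by
    rw [hV, Subgroup.map_eq_bot_iff, hπ, QuotientGroup.ker_mk'] at h
    exact hLD.not_ge h
  have hVc : ∀ a ∈ V, ∀ b ∈ V, a * b = b * a := by
    rcases hVmin ⁅V, V⁆ inferInstance (Subgroup.commutator_le_right V V) with h | h
    · exact fun a ha b hb =>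
        (Subgroup.mem_centralizer_iff.1 ((Subgroup.commutator_eq_bot_iff_le_centralizer.1 h) hb) a ha)
    · exact absurd h (Group.IsSolvable.commutator_lt_of_ne_bot hV0).ne
  have hVp : (Nat.card ↥V).Coprime p :=
    hN.coprime_dvd_left ((Subgroup.card_map_dvd D π).trans (Subgroup.card_dvd_of_le hDN))
  haveI := finite_dual V hVc
  set d := dualConj V with hd
  set H := P0.map (d.comp π) with hH
  have hsurj := QuotientGroup.mk'_surjective L
  have hmem : ∀ n ∈ N, ∀ a ∈ P0, π (n * a * n⁻¹ * a⁻¹) ∈ V := fun n hn a ha =>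
    Subgroup.mem_map_of_mem π (Subgroup.subset_normalClosure ⟨n, hn, a, ha, rfl⟩)
  have hnd : ∀ n ∈ N, ∀ a ∈ P0, d (π n) * d (π a) * (d (π n))⁻¹ = d (π a) := fun n hn a ha => by
    have h2 : d (π (n * a * n⁻¹ * a⁻¹)) = 1 :=
      dualConj_eq_one_of_comm V fun k hk => hVc _ (hmem n hn a ha) k hk
    simp only [map_mul, map_inv] at h2
    exact mul_inv_eq_one.1 h2
  have hnorm0 : ∀ g : Q, ∀ a ∈ P0, ∃ b ∈ P0, d (π g) * d (π a) * (d (π g))⁻¹ = d (π b) := by
    intro g a ha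
    obtain ⟨n, hn, m, rfl, hm⟩ := hfrat g
    refine ⟨m * a * m⁻¹, hm a ha, ?_⟩
    rw [← hnd n hn _ (hm a ha)]
    simp only [map_mul, map_inv, mul_inv_rev, mul_assoc]
  have hnorm : ∀ g : Q ⧸ L, ∀ a ∈ H, d g * a * (d g)⁻¹ ∈ H := by
    rintro g _ ⟨a, ha, rfl⟩
    obtain ⟨g, rfl⟩ := hsurj g
    obtain ⟨b, hb, hgb⟩ := hnorm0 g a ha
    exact ⟨b, hb, hgb.symm⟩
  -- the action is faithful
  have hfaith : ∀ a ∈ P0, d (π a) = 1 → a = 1 := by
    set K0 := P0 ⊓ (d.comp π).ker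
    have hK0n : (K0.map (QuotientGroup.mk' N)).Normal := ⟨by
      rintro _ ⟨a, ⟨ha, hak⟩, rfl⟩ g
      obtain ⟨g, rfl⟩ := QuotientGroup.mk'_surjective N g
      obtain ⟨n, hn, m, rfl, hm⟩ := hfrat g
      refine ⟨m * a * m⁻¹, ⟨hm a ha, ?_⟩, ?_⟩
      · have hak' : (d.comp π) a = 1 := hak
        show (d.comp π) (m * a * m⁻¹) = 1
        rw [map_mul, map_mul, hak', mul_one, ← map_mul, mul_inv_cancel, map_one]
      · have hn1 : QuotientGroup.mk' N n = 1 := (QuotientGroup.eq_one_iff n).2 hn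
        simp only [map_mul, map_inv, hn1, one_mul]⟩
    rcases hmin _ hK0n (by rintro _ ⟨a, ⟨ha, -⟩, rfl⟩; exact hP0U a ha) with h | h
    · intro a ha hak
      refine hinj a ha ((QuotientGroup.eq_one_iff a).1 ?_)
      have : QuotientGroup.mk' N a ∈ K0.map (QuotientGroup.mk' N) :=
        Subgroup.mem_map_of_mem _ ⟨ha, hak⟩
      rw [h, Subgroup.mem_bot] at this
      exact this
    · exfalso
      have hall : ∀ a ∈ P0, d (π a) = 1 := fun a ha => by
        obtain ⟨b, ⟨hb, hbk⟩, hab⟩ := h.symm ▸ hP0U a ha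
        have := hinj _ (P0.mul_mem (P0.inv_mem hb) ha) (QuotientGroup.eq.1 hab)
        rw [inv_mul_eq_one] at this
        subst this
        exact hbk
      have hS0L : S0 ⊆ (L : Set Q) := by
        rintro _ ⟨n, hn, a, ha, rfl⟩
        set c := π (n * a * n⁻¹ * a⁻¹) with hc
        have hcc : π a * c = c * π a := eq_of_dualConj_eq_one V hVc (hall a ha) (hmem n hn a ha)
        have hi : ∀ i : ℕ, π n * π a ^ i = c ^ i * π a ^ i * π n := by
          intro i
          induction i with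
          | zero => simp
          | succ i ih =>
            have hna : π n * π a = c * π a * π n := by
              rw [hc]; simp [mul_assoc]
            rw [pow_succ, ← mul_assoc, ih, mul_assoc _ (π n), hna, pow_succ]
            simp only [← mul_assoc]
            rw [mul_assoc (c ^ i), ((show Commute (π a) c from hcc).pow_left i).eq]
            simp only [mul_assoc]
        have h2 := hi p
        rw [← map_pow, hPexp a ha, map_one, mul_one, mul_one] at h2
        have h3 : c ^ p = 1 := right_eq_mul.1 h2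
        have h4 : c = 1 := orderOf_eq_one_iff.1 (Nat.eq_one_of_dvd_coprimes hVp
          (by rw [← Subgroup.orderOf_mk c (hmem n hn a ha)]; exact orderOf_dvd_natCard _)
          (orderOf_dvd_of_pow_eq_one h3))
        exact (QuotientGroup.eq_one_iff _).1 h4
      exact hLD.not_ge (Subgroup.normalClosure_le_normal hS0L)
  -- no character is fixed by the whole group
  have hfix : ∀ χ : ↥V →* ℂˣ, (∀ a ∈ H, a χ = χ) → χ = 1 := by
    intro χ hχ
    set S1 : Set (Q ⧸ L) := {c | ∃ v ∈ V, ∃ a ∈ P0, π a * v * (π a)⁻¹ * v⁻¹ = c} with hS1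
    have hconj : Group.conjugatesOfSet S1 ⊆ S1 := by
      intro x hx
      obtain ⟨c, ⟨v, hv, a, ha, rfl⟩, hx⟩ := Group.mem_conjugatesOfSet_iff.1 hx
      obtain ⟨g, rfl⟩ := isConj_iff.1 hx
      obtain ⟨g0, rfl⟩ := hsurj g
      obtain ⟨b, hb, hgb⟩ := hnorm0 g0 a ha
      set v' := π g0 * v * (π g0)⁻¹ with hv'
      refine ⟨v', hVn.conj_mem v hv _, b, hb, ?_⟩
      have h2 : d ((π b)⁻¹ * (π g0 * π a * (π g0)⁻¹)) = 1 := by
        rw [map_mul, map_inv, map_mul, map_mul, map_inv, hgb, inv_mul_cancel]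
      have h3 := eq_of_dualConj_eq_one V hVc h2 (hVn.conj_mem v hv (π g0))
      have h4 : π g0 * π a * (π g0)⁻¹ * v' * (π g0 * π a * (π g0)⁻¹)⁻¹ = π b * v' * (π b)⁻¹ := by
        calc _ = π b * ((π b)⁻¹ * (π g0 * π a * (π g0)⁻¹) * v') *
              (π g0 * π a * (π g0)⁻¹)⁻¹ := by group
          _ = _ := by rw [h3, hv']; group
      rw [← h4, hv']
      simp only [mul_inv_rev, inv_inv, mul_assoc, inv_mul_cancel_left]
      rfl
    set F := χ.ker.map V.subtype with hF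
    have hS1F : S1 ⊆ (F : Set (Q ⧸ L)) := by
      rintro _ ⟨v, hv, a, ha, rfl⟩
      refine ⟨MulAut.conjNormal (H := V) (π a) ⟨v, hv⟩ * ⟨v, hv⟩⁻¹, ?_, rfl⟩
      have h2 := DFunLike.congr_fun (hχ _ ⟨a⁻¹, P0.inv_mem ha, rfl⟩) (⟨v, hv⟩ : ↥V)
      rw [MonoidHom.comp_apply, hd, dualConj_apply, ← map_inv π, inv_inv] at h2
      rw [SetLike.mem_coe, MonoidHom.mem_ker, map_mul, map_inv, h2, mul_inv_cancel]
    have hle : Subgroup.normalClosure S1 ≤ F :=
      (Subgroup.closure_le _).2 (hconj.trans hS1F)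
    rcases hVmin (Subgroup.normalClosure S1) inferInstance (Subgroup.normalClosure_le_normal (by
        rintro _ ⟨v, hv, a, -, rfl⟩
        exact V.mul_mem (hVn.conj_mem v hv _) (V.inv_mem hv))) with h | h
    · refine absurd (hfaith e heP (dualConj_eq_one_of_comm V fun v hv => ?_)) he1
      have h2 : π e * v * (π e)⁻¹ * v⁻¹ ∈ Subgroup.normalClosure S1 :=
        Subgroup.subset_normalClosure ⟨v, hv, e, heP, rfl⟩
      rw [h, Subgroup.mem_bot, mul_inv_eq_one, mul_inv_eq_iff_eq_mul] at h2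
      exact h2
    · refine MonoidHom.ext fun v => ?_
      obtain ⟨w, hw, hwv⟩ := (h.symm.le.trans hle) v.2
      rw [← Subtype.ext hwv]
      exact hw
  obtain ⟨χ, hχ⟩ := exists_regular_abelian (V := ↥V →* ℂˣ) (p := p)
    (by rw [card_dual V hVc]; exact (hp.out.coprime_iff_not_dvd).1 hVp.symm) H
    (by
      rintro _ ⟨a, ha, rfl⟩ _ ⟨b, hb, rfl⟩
      rw [← map_mul, ← map_mul, hPcomm a ha b hb])
    (by
      rintro _ ⟨a, ha, rfl⟩
      rw [← map_pow, hPexp a ha, map_one])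
    hfix
  -- every root of a nontrivial element of `P0` vanishes
  have hvan : ∀ (x : Q) (i : ℕ), x ^ i ∈ P0 → x ^ i ≠ 1 → Van x := by
    intro x i hi hi1
    refine Van.of_map π hsurj (van_of_regular V hVc H hnorm χ hχ (π x) i ?_ ?_)
    · exact ⟨x ^ i, hi, by rw [MonoidHom.comp_apply, map_pow π]⟩
    · rw [← map_pow π]
      exact fun h => hi1 (hfaith _ hi h)
  intro f hf hef
  have hc : Commute e f := hef
  have hfo : f ^ orderOf f = 1 := pow_orderOf_eq_one f
  have hnd2 : ¬ p ∣ orderOf f := fun h => (hp.out.coprime_iff_not_dvd).1 hN.symm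
    (h.trans (by rw [← Subgroup.orderOf_mk f hf]; exact orderOf_dvd_natCard _))
  refine eq_one_of_van N h1 hN he he1 hf hc (hvan e 1 (by rwa [pow_one]) (by rwa [pow_one]))
    (hvan (e * f) (orderOf f) ?_ ?_)
  · rw [hc.mul_pow, hfo, mul_one]
    exact P0.pow_mem heP _
  · rw [hc.mul_pow, hfo, mul_one, Ne, ← orderOf_dvd_iff_pow_eq_one, orderOf_eq_prime he he1]
    exact hnd2

end Cfsg.Agent.OneOrder
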