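import Cfsg.Agent.Lib.OneOrder.Fpf
import Cfsg.Agent.Lib.Solvable.Fitting
import Cfsg.Agent.Lib.Solvable.Structure
import Cfsg.Agent.Lib.Transfer.Basic
import Cfsg.Agent.Lib.PLocal.FixedPointFree

/-!
# Solvable groups whose vanishing `p`-singular elements share their order

The image of a Sylow `p`-subgroup in the quotient by the `p`-core has order at most `p`.
-/

set_option autoImplicit false
set_option linter.style.haveILetI false
set_option linter.unusedSectionVars false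

namespace Cfsg.Agent.OneOrder

universe u

variable {p : ℕ} [hp : Fact p.Prime]

/-- A vanishing element and its `p`-th power are not both `p`-singular vanishing. -/
def H2 (p : ℕ) (Q : Type u) [Group Q] : Prop :=
  ∀ r : Q, Van r → Van (r ^ p) → p ∣ orderOf (r ^ p) → False

theorem card_le {Q : Type u} [Group Q] [Finite Q] [Group.IsSolvable Q]
    (hQ : Cfsg.pCore p Q = ⊥) (h1 : H1 p Q) (h2 : H2 p Q) {P : Subgroup Q} (hP : IsPGroup p ↥P) :
    Nat.card ↥P ≤ p := by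
  classical
  set N := Cfsg.pPrimeCore p Q with hN'
  have hN : (Nat.card ↥N).Coprime p := PBasic.pPrimeCore_coprime p Q
  set X := Q ⧸ N with hX
  have hX0 : Cfsg.pPrimeCore p X = ⊥ := PBasic.pPrimeCore_quotient_pPrimeCore p Q
  set mk := QuotientGroup.mk' N with hmk
  have hmks : Function.Surjective mk := QuotientGroup.mk'_surjective N
  have hmkN : ∀ a, mk a = 1 ↔ a ∈ N := fun a => QuotientGroup.eq_one_iff a
  set R := Cfsg.pCore p X with hR'
  have hRp : IsPGroup p ↥R := PBasic.pCore_isPGroup p X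
  have hRn : R.Normal := Cfsg.pCore_normal p X
  have hCR : Subgroup.centralizer (R : Set X) ≤ R := FittingCores.centralizer_pCore_le hp.out hX0
  have hPN : ∀ a ∈ P, a ∈ N → a = 1 := fun a ha haN => by
    obtain ⟨k, hk⟩ := hP ⟨a, ha⟩
    exact eq_one_of_coprime N hN haN (congrArg Subtype.val hk)
  by_cases hR0 : R = ⊥
  · have : P = ⊥ := (Subgroup.eq_bot_iff_forall P).2 fun a ha => hPN a ha ((hmkN a).1
      (Subgroup.mem_bot.1 (hR0 ▸ hCR (Subgroup.mem_centralizer_iff.2 fun r hr => by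
        rw [SetLike.mem_coe, hR0, Subgroup.mem_bot] at hr
        rw [hr, one_mul, mul_one]))))
    rw [this, Subgroup.card_bot]
    exact hp.out.one_lt.le
  -- minimal normal subgroups inside the `p`-core
  have hminR : ∀ A : Subgroup X, A.Normal → A ≠ ⊥ → A ≤ R → ∃ B : Subgroup X, B.Normal ∧ B ≠ ⊥ ∧
      B ≤ A ∧ (∀ a ∈ B, ∀ b ∈ B, a * b = b * a) ∧ (∀ x ∈ B, x ^ p = 1) ∧
      ∀ K : Subgroup X, K.Normal → K ≤ B → K = ⊥ ∨ K = B := by
    intro A hA hA0 hAR
    obtain ⟨B, q, hq, hBn, hB0, hBA, hBc, hBe, -, hBmin⟩ :=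
      SolvBasic.exists_minimal_normal_abelian hA hA0
    obtain ⟨⟨b, hb⟩, hb1⟩ := Subgroup.ne_bot_iff_exists_ne_one.1 hB0
    obtain ⟨k, hk⟩ := hRp ⟨b, hAR (hBA hb)⟩
    have hb1' : b ≠ 1 := fun h => hb1 (Subtype.ext h)
    haveI := Fact.mk hq
    have hord : orderOf b = q := orderOf_eq_prime (hBe b hb) hb1'
    have hqp : q = p := (Nat.prime_dvd_prime_iff_eq hq hp.out).1
      (hq.dvd_of_dvd_pow (hord ▸ orderOf_dvd_of_pow_eq_one (congrArg Subtype.val hk)))
    subst hqp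
    exact ⟨B, hBn, hB0, hBA, fun a ha b hb => setLike_mul_comm ha hb, hBe, hBmin⟩
  obtain ⟨Ub, hUn, hU0, hUR, hUc, hUe, hUmin⟩ := hminR R hRn hR0 le_rfl
  haveI := hUn
  have hUp : IsPGroup p ↥Ub := hRp.to_le hUR
  obtain ⟨P0, -, hP0p, hP0U, hinj, hlift, hfrat⟩ :=
    sylow_over N hN Ub hUp 1 (one_pow p) (by rw [map_one]; exact Ub.one_mem)
  have hPexp : ∀ a ∈ P0, a ^ p = 1 := fun a ha => hinj _ (P0.pow_mem ha p) ((hmkN _).1 (by
    rw [map_pow, hUe _ (hP0U a ha)]))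
  have hfpf : ∀ a ∈ P0, a ≠ 1 → ∀ f ∈ N, a * f = f * a → f = 1 := fun a ha ha1 =>
    fpf N hQ h1 hN Ub hUmin hUe hUc a (hPexp a ha) ha1 (hP0U a ha)
  obtain ⟨⟨u0, hu0⟩, hu01⟩ := Subgroup.ne_bot_iff_exists_ne_one.1 hU0
  obtain ⟨e, heP, heu⟩ := hlift u0 hu0
  have he1 : e ≠ 1 := fun h => hu01 (Subtype.ext (show u0 = 1 by rw [← heu, h, map_one]))
  have hN0 : N ≠ ⊥ := by
    intro h
    have hn : P0.Normal := ⟨fun a ha g => by
      obtain ⟨n, hn, m, rfl, hm⟩ := hfrat g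
      rw [h, Subgroup.mem_bot] at hn
      rw [hn, one_mul]
      exact hm a ha⟩
    have : P0 ≤ Cfsg.pCore p Q := le_sSup ⟨hn, hP0p⟩
    exact he1 (Subgroup.mem_bot.1 (hQ ▸ this heP))
  obtain ⟨M, q, -, hMn, hM0, hMN, hMc', -, -, hMmin⟩ :=
    SolvBasic.exists_minimal_normal_abelian (inferInstance : N.Normal) hN0
  haveI := hMn
  have hMc : ∀ a ∈ M, ∀ b ∈ M, a * b = b * a := fun a ha b hb => setLike_mul_comm ha hb
  letI : CommGroup ↥M :=
    { (inferInstance : Group ↥M) with mul_comm := fun a b => Subtype.ext (hMc a a.2 b b.2) }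
  have hMp : ¬ p ∣ Nat.card ↥M := fun h => (hp.out.coprime_iff_not_dvd).1 hN.symm
    (h.trans (Subgroup.card_dvd_of_le hMN))
  set φ : Q →* MulAut ↥M := MulAut.conjNormal (H := M) with hφ
  have hfix : ∀ (g : Q) (w : ↥M), φ g w = w → g * (w : Q) = (w : Q) * g := fun g w h => by
    have h' := congrArg Subtype.val h
    rw [hφ, MulAut.conjNormal_apply] at h'
    exact mul_inv_eq_iff_eq_mul.1 h'
  have hefpf : ∀ w : ↥M, φ e w = w → w = 1 := fun w h =>
    Subtype.ext (hfpf e heP he1 w (hMN w.2) (hfix e w h))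
  -- the Sylow subgroup of the preimage is cyclic of order `p`
  have hφinj : ∀ a ∈ P0, φ a = 1 → a = 1 := fun a ha h => by
    by_contra ha1
    refine hM0 ((Subgroup.eq_bot_iff_forall M).2 fun w hw => ?_)
    exact hfpf a ha ha1 w (hMN hw) (hfix a ⟨w, hw⟩ (by rw [h]; rfl))
  have hcardP0 : Nat.card ↥P0 = p := by
    set A := P0.map φ with hA
    have hcardA : Nat.card ↥A = Nat.card ↥P0 :=
      (Nat.card_congr (Equiv.ofBijective (fun a : ↥P0 => (⟨φ a, ⟨a, a.2, rfl⟩⟩ : ↥A))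
        ⟨fun a b h => by
          have h' : φ a = φ b := congrArg Subtype.val h
          have := hφinj _ (P0.mul_mem (P0.inv_mem a.2) b.2)
            (by rw [map_mul, map_inv, h', inv_mul_cancel])
          exact Subtype.ext (inv_mul_eq_one.1 this),
         fun ⟨_, a, ha, rfl⟩ => ⟨⟨a, ha⟩, rfl⟩⟩)).symm
    have hcomm0 : ∀ a ∈ P0, ∀ b ∈ P0, a * b = b * a := fun a ha b hb => mul_inv_eq_one.1
      (hinj _ (P0.mul_mem (P0.mul_mem ha hb) (P0.inv_mem (P0.mul_mem hb ha))) ((hmkN _).1 (by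
        rw [map_mul, map_inv, map_mul, map_mul, hUc _ (hP0U a ha) _ (hP0U b hb), mul_inv_cancel])))
    by_contra hne
    obtain ⟨w0, hw0⟩ := Subgroup.ne_bot_iff_exists_ne_one.1 hM0
    refine hw0 (PrimClass.eq_one_of_proj A p
      (by rintro _ ⟨a, ha, rfl⟩ _ ⟨b, hb, rfl⟩; rw [← map_mul, ← map_mul, hcomm0 a ha b hb])
      (by rintro _ ⟨a, ha, rfl⟩; rw [← map_pow, hPexp a ha, map_one])
      ((hp.out.coprime_iff_not_dvd).2 hMp).symm
      (fun v hv => hefpf v (hv _ ⟨e, heP, rfl⟩)) fun B => ?_)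
    have hB0 : B.1 ≠ ⊥ := fun h => by
      have hi := B.2
      rw [h, Subgroup.index_bot, hcardA] at hi
      exact hne hi
    obtain ⟨⟨⟨_, a, ha, rfl⟩, hbB⟩, hb1⟩ := Subgroup.ne_bot_iff_exists_ne_one.1 hB0
    have ha1 : a ≠ 1 := fun h => hb1 (Subtype.ext (Subtype.ext (by
      show φ a = 1
      rw [h, map_one])))
    have hfx := PrimClass.proj_apply_mem A hbB w0
    exact Subtype.ext (hfpf a ha ha1 _ (hMN (PrimClass.proj A B.1 w0).2) (hfix a _ hfx))
  have he : e ^ p = 1 := hPexp e heP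
  have hgen : ∀ a ∈ P0, ∃ k : ℕ, e ^ k = a := fun a ha => by
    have hz : Subgroup.zpowers e = P0 := Subgroup.eq_of_le_of_card_ge (Subgroup.zpowers_le.2 heP)
      (by rw [hcardP0, Nat.card_zpowers, orderOf_eq_prime he he1])
    exact (mem_powers_iff_mem_zpowers.2 (hz ▸ ha : a ∈ Subgroup.zpowers e))
  have hgenU : ∀ u ∈ Ub, ∃ k : ℕ, mk e ^ k = u := fun u hu => by
    obtain ⟨a, ha, rfl⟩ := hlift u hu
    obtain ⟨k, rfl⟩ := hgen a ha
    exact ⟨k, (map_pow mk e k).symm⟩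
  -- `N` centralises `M`
  have hNM : ∀ n ∈ N, ∀ w ∈ M, n * w = w * n := by
    have hnil : Group.IsNilpotent ↥N :=
      FixedPointFreeThompson.isNilpotent_of_conj N hp.out e he (hfpf e heP he1)
    have hle := (FittingCores.le_fitting inferInstance hnil).trans
      (SolvStruct.fitting_le_centralizer_minimal (M := M) hM0 hMmin)
    exact fun n hn w hw => (Subgroup.mem_centralizer_iff.1 (hle hn) w hw).symm
  haveI := finite_dual M hMc
  set d := dualConj M with hd
  have hdN : ∀ a b : Q, mk a = mk b → d a = d b := fun a b h => by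
    have h1 : d (a⁻¹ * b) = 1 := dualConj_eq_one_of_comm M (hNM _ (QuotientGroup.eq.1 h))
    rw [map_mul, map_inv, inv_mul_eq_one] at h1
    exact h1
  have hφN : ∀ a b : Q, mk a = mk b → φ a = φ b := fun a b h => by
    have h1 : φ (a⁻¹ * b) = 1 := MulEquiv.ext fun w => Subtype.ext (by
      show a⁻¹ * b * (w : Q) * (a⁻¹ * b)⁻¹ = w
      exact mul_inv_eq_iff_eq_mul.2 (hNM _ (QuotientGroup.eq.1 h) w w.2))
    rw [map_mul, map_inv, inv_mul_eq_one] at h1
    exact h1
  have hdfpf : ∀ a ∈ P0, a ≠ 1 → ∀ χ : ↥M →* ℂˣ, d a χ = χ → χ = 1 := fun a ha ha1 χ hχ =>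
    dual_fpf M hMc (fun k hk => hfpf a ha ha1 k (hMN hk)) hχ
  obtain ⟨χ0, hχ0⟩ : ∃ χ : ↥M →* ℂˣ, χ ≠ 1 := by
    obtain ⟨w0, hw0⟩ := Subgroup.ne_bot_iff_exists_ne_one.1 hM0
    obtain ⟨χ, hχ⟩ := CommGroup.exists_apply_ne_one_of_hasEnoughRootsOfUnity ↥M ℂ hw0
    exact ⟨χ, fun h => hχ (by rw [h]; rfl)⟩
  have hvanU : ∀ (x : Q) (i : ℕ), mk (x ^ i) ∈ Ub → mk (x ^ i) ≠ 1 → Van x := by
    intro x i hi hi1
    refine van_of_regular M hMc ((Ub.comap mk).map d) ?_ χ0 ?_ x i ⟨x ^ i, hi, rfl⟩ ?_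
    · rintro g _ ⟨a, ha, rfl⟩
      exact ⟨g * a * g⁻¹, (hUn.comap mk).conj_mem a ha g, by rw [map_mul, map_mul, map_inv]⟩
    · rintro _ ⟨a, ha, rfl⟩ hfx
      obtain ⟨b, hb, hba⟩ := hlift _ ha
      rw [← hdN b a hba] at hfx ⊢
      by_contra hne
      exact hχ0 (hdfpf b hb (fun h => hne (by rw [h, map_one])) χ0 hfx)
    · obtain ⟨b, hb, hba⟩ := hlift _ hi
      rw [← hdN b _ hba]
      intro h
      exact hχ0 (hdfpf b hb (fun h' => hi1 (by rw [← hba, h', map_one])) χ0 (by rw [h]; rfl))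
  -- the `p`-core of the quotient is minimal normal
  have hcentR : ∀ r ∈ R, ∀ u ∈ Ub, r * u = u * r := by
    haveI := hRp.isNilpotent
    have hne : Ub.subgroupOf R ≠ ⊥ := by
      rw [Ne, Subgroup.subgroupOf_eq_bot, disjoint_iff, inf_eq_left.2 hUR]
      exact hU0
    obtain ⟨⟨z, hz⟩, hz1⟩ := Subgroup.ne_bot_iff_exists_ne_one.1
      (SolvStruct.inf_center_ne_bot (N := Ub.subgroupOf R) hne)
    obtain ⟨hzU, hzc⟩ := Subgroup.mem_inf.1 hz
    obtain ⟨a, ha, hau⟩ := hlift (z : X) hzU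
    have ha1 : a ≠ 1 := fun h => hz1 (Subtype.ext (Subtype.ext (by rw [← hau, h, map_one]; rfl)))
    have hzP : Subgroup.zpowers a = P0 := Subgroup.eq_of_le_of_card_ge (Subgroup.zpowers_le.2 ha)
      (by rw [hcardP0, Nat.card_zpowers, orderOf_eq_prime (hPexp a ha) ha1])
    intro r hr u hu
    obtain ⟨b, hb, rfl⟩ := hlift u hu
    obtain ⟨k, rfl⟩ := Subgroup.mem_zpowers_iff.1 (hzP.symm ▸ hb : b ∈ Subgroup.zpowers a)
    rw [map_zpow, hau]
    have hc : Commute r (z : X) := congrArg Subtype.val (Subgroup.mem_center_iff.1 hzc ⟨r, hr⟩)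
    exact hc.zpow_right k
  have hRU : R = Ub := by
    by_contra hne
    obtain ⟨Dx, ⟨hDn, hUD, hDR⟩, hDmin⟩ := (Set.toFinite
      {D : Subgroup X | D.Normal ∧ Ub < D ∧ D ≤ R}).exists_minimal
      ⟨R, hRn, lt_of_le_of_ne hUR (Ne.symm hne), le_rfl⟩
    haveI := hDn
    set π := QuotientGroup.mk' Ub with hπ
    have hπs : Function.Surjective π := QuotientGroup.mk'_surjective Ub
    set W := Dx.map π with hW
    have hWn : W.Normal := hDn.map π hπs
    have hW0 : W ≠ ⊥ := fun h => by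
      rw [hW, Subgroup.map_eq_bot_iff, hπ, QuotientGroup.ker_mk'] at h
      exact hUD.not_ge h
    have hWeq : ∀ A : Subgroup (X ⧸ Ub), A.Normal → A ≠ ⊥ → A ≤ W → A = W := by
      intro A hA hA0 hAW
      have h1' : A.comap π ≤ Dx := by
        refine (Subgroup.comap_mono hAW).trans ?_
        rw [hW, Subgroup.comap_map_eq, hπ, QuotientGroup.ker_mk']
        exact sup_le le_rfl hUD.le
      have h2' : Ub < A.comap π := by
        refine lt_of_le_of_ne (fun x hx => ?_) fun h => hA0 ?_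
        · show π x ∈ A
          rw [hπ, QuotientGroup.mk'_apply, (QuotientGroup.eq_one_iff x).2 hx]
          exact A.one_mem
        · rw [← Subgroup.map_comap_eq_self_of_surjective hπs A, ← h, hπ,
            Subgroup.map_eq_bot_iff, QuotientGroup.ker_mk']
      rw [hW, ← le_antisymm h1' (hDmin ⟨hA.comap π, h2', h1'.trans hDR⟩ h1'),
        Subgroup.map_comap_eq_self_of_surjective hπs A]
    obtain ⟨A, q', hq', hAn, hA0, hAW, hAc, hAe, -, -⟩ :=
      SolvBasic.exists_minimal_normal_abelian hWn hW0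
    have hAeq := hWeq A hAn hA0 hAW
    subst hAeq
    haveI := Fact.mk hq'
    have hqp : q' = p := by
      obtain ⟨⟨w, hw⟩, hw1⟩ := Subgroup.ne_bot_iff_exists_ne_one.1 hA0
      obtain ⟨k, hk⟩ := ((hRp.to_le hDR).map π) ⟨w, hw⟩
      exact (Nat.prime_dvd_prime_iff_eq hq' hp.out).1 (hq'.dvd_of_dvd_pow
        (orderOf_eq_prime (hAe w hw) (fun h => hw1 (Subtype.ext h)) ▸
          orderOf_dvd_of_pow_eq_one (congrArg Subtype.val hk)))
    have hDcomm : ∀ a ∈ Dx, ∀ b ∈ Dx, a * b * a⁻¹ * b⁻¹ ∈ Ub := fun a ha b hb => by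
      rw [← QuotientGroup.eq_one_iff]
      show π (a * b * a⁻¹ * b⁻¹) = 1
      rw [map_mul, map_mul, map_mul, setLike_mul_comm (Subgroup.mem_map_of_mem π ha)
        (Subgroup.mem_map_of_mem π hb), map_inv, map_inv, mul_inv_cancel_right, mul_inv_cancel]
    have hDpow : ∀ a ∈ Dx, a ^ p ∈ Ub := fun a ha => by
      rw [← QuotientGroup.eq_one_iff]
      show π (a ^ p) = 1
      have h' := hAe _ (Subgroup.mem_map_of_mem π ha)
      rw [hqp] at h'
      rw [map_pow, h']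
    obtain ⟨S, -, hSp, hSD, hSinj, hSlift, -⟩ :=
      sylow_over N hN Dx (hRp.to_le hDR) 1 (one_pow p) (by rw [map_one]; exact Dx.one_mem)
    have hSexp : ∀ s ∈ S, s ^ p = 1 := by
      intro s hs
      refine hSinj _ (S.pow_mem hs p) ((hmkN _).1 ?_)
      by_contra hne1
      have hv1 : Van s := hvanU s p (by rw [map_pow]; exact hDpow _ (hSD s hs)) hne1
      have hv2 : Van (s ^ p) := hvanU (s ^ p) 1
        (by rw [pow_one, map_pow]; exact hDpow _ (hSD s hs)) (by rwa [pow_one])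
      refine h2 s hv1 hv2 ?_
      have hop : orderOf (mk (s ^ p)) = p := orderOf_eq_prime
        (hUe _ (by rw [map_pow]; exact hDpow _ (hSD s hs))) hne1
      exact hop.symm.dvd.trans (orderOf_map_dvd mk (s ^ p))
    obtain ⟨e', he'S, he'⟩ := hSlift (mk e) (hUD.le (hP0U e heP))
    set H := (Dx.comap mk).map d with hH
    have hHS : ∀ h ∈ H, ∃ s ∈ S, d s = h := by
      rintro _ ⟨a, ha, rfl⟩
      obtain ⟨s, hs, hsa⟩ := hSlift _ ha
      exact ⟨s, hs, hdN s a hsa⟩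
    -- faithfulness
    have hfaith : ∀ s ∈ S, d s = 1 → s = 1 := by
      intro s hs hds
      refine hSinj s hs ((hmkN s).1 ?_)
      by_contra hs1
      have hK0 : (Dx.comap mk ⊓ d.ker).map mk ≠ ⊥ := fun h => by
        have : mk s ∈ (Dx.comap mk ⊓ d.ker).map mk :=
          Subgroup.mem_map_of_mem mk ⟨hSD s hs, hds⟩
        rw [h, Subgroup.mem_bot] at this
        exact hs1 this
      have hKD : (Dx.comap mk ⊓ d.ker).map mk ≤ Dx := by
        rintro _ ⟨x, ⟨hx, -⟩, rfl⟩; exact hx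
      have hKn : ((Dx.comap mk ⊓ d.ker).map mk).Normal := by
        haveI : (Dx.comap mk).Normal := hDn.comap mk
        exact Subgroup.Normal.map inferInstance mk hmks
      obtain ⟨B, hBn, hB0, hBK, hBc, hBe, hBmin⟩ := hminR _ hKn hK0 (hKD.trans hDR)
      haveI := hBn
      obtain ⟨⟨b, hb⟩, hb1⟩ := Subgroup.ne_bot_iff_exists_ne_one.1 hB0
      obtain ⟨a, ha, hab⟩ := hSlift b (hKD (hBK hb))
      obtain ⟨x, ⟨-, hxd⟩, hxb⟩ := hBK hb
      have hda : d a = 1 := (hdN a x (hab.trans hxb.symm)).trans hxd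
      have ha1 : a ≠ 1 := fun h => hb1 (Subtype.ext (show b = 1 by rw [← hab, h, map_one]))
      refine hM0 ((Subgroup.eq_bot_iff_forall M).2 fun w hw => ?_)
      exact fpf N hQ h1 hN B hBmin hBe hBc a (hSexp a ha) ha1 (by rw [hab]; exact hb) w (hMN hw)
        (eq_of_dualConj_eq_one M hMc hda hw)
    obtain ⟨χ, hχ⟩ := exists_regular (p := p) _ (↥M →* ℂˣ)
      (by rw [card_dual M hMc]; exact hMp) H (d e) (Subgroup.mem_map_of_mem d (show e ∈ Dx.comap mk from hUD.le (hP0U e heP)))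
      (by
        intro h hh
        obtain ⟨s, hs, rfl⟩ := hHS h hh
        rw [← map_pow, hSexp s hs, map_one])
      (by
        rintro _ ⟨a, ha, rfl⟩
        rw [← map_mul, ← map_mul]
        refine hdN _ _ ?_
        rw [map_mul, map_mul]
        exact hcentR _ (hDR ha) _ (hP0U e heP))
      (by
        rintro _ ⟨a, ha, rfl⟩ _ ⟨b, hb, rfl⟩
        obtain ⟨k, hk⟩ := hgenU _ (hDcomm _ ha _ hb)
        refine ⟨k, ?_⟩
        rw [← map_inv, ← map_inv, ← map_mul, ← map_mul, ← map_mul, ← map_pow]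
        refine hdN _ _ ?_
        rw [map_pow mk, hk]
        simp only [map_mul, map_inv])
      (fun χ hχ => hdfpf e heP he1 χ hχ) rfl
    have hvanD : ∀ (x : Q) (i : ℕ), x ^ i ∈ S → x ^ i ≠ 1 → Van x := fun x i hi hi1 =>
      van_of_regular M hMc H (by
        rintro g _ ⟨a, ha, rfl⟩
        exact ⟨g * a * g⁻¹, (hDn.comap mk).conj_mem a ha g, by rw [map_mul, map_mul, map_inv]⟩)
        χ hχ x i ⟨x ^ i, hSD _ hi, rfl⟩ fun h => hi1 (hfaith _ hi h)
    obtain ⟨r, hrD, hrU⟩ := SetLike.exists_of_lt hUD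
    obtain ⟨s, hs, hsr⟩ := hSlift r hrD
    have hcom : Commute (φ s) (φ e') := by
      show φ s * φ e' = φ e' * φ s
      rw [← map_mul, ← map_mul]
      refine hφN _ _ ?_
      rw [map_mul, map_mul, hsr, he']
      exact hcentR r (hDR hrD) _ (hP0U e heP)
    have hcf : ∀ w : ↥M, φ e' w = w → w = 1 := fun w h =>
      hefpf w (by rwa [hφN e' e he'] at h)
    obtain ⟨w0, hw0⟩ := Subgroup.ne_bot_iff_exists_ne_one.1 hM0
    obtain ⟨k, -, hk⟩ : ∃ k ∈ Finset.range p, orbProd p (φ s * φ e' ^ k) w0 ≠ 1 := by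
      by_contra hall
      push Not at hall
      have := prod_orbProd (p := p) hcom (by rw [← map_pow, hSexp e' he'S, map_one]) hcf w0
      rw [Finset.prod_eq_one hall, ← one_pow p] at this
      exact hw0 (eq_of_pow_eq hMp this).symm
    set f := orbProd p (φ s * φ e' ^ k) w0 with hf
    have ht : φ s * φ e' ^ k = φ (s * e' ^ k) := by rw [map_mul, map_pow]
    have htS : s * e' ^ k ∈ S := S.mul_mem hs (S.pow_mem he'S k)
    have hft : φ (s * e' ^ k) f = f := by
      rw [← ht]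
      exact orbProd_fixed (by rw [ht, ← map_pow, hSexp _ htS, map_one]) w0
    set t := s * e' ^ k with htdef
    have ht1 : t ≠ 1 := fun h => hrU (by
      have h' : mk s * mk e' ^ k = 1 := by rw [← map_pow, ← map_mul, ← htdef, h, map_one]
      rw [hsr, he', mul_eq_one_iff_eq_inv] at h'
      rw [h']
      exact Ub.inv_mem (Ub.pow_mem (hP0U e heP) k))
    have hc : Commute t (f : Q) := hfix t f hft
    have hnd : ¬ p ∣ orderOf (f : Q) := fun h => hMp (h.trans (by
      rw [Subgroup.orderOf_coe]; exact orderOf_dvd_natCard _))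
    refine hk (Subtype.ext (eq_one_of_van N h1 hN (hSexp t htS) ht1 (hMN f.2) hc
      (hvanD t 1 (by rwa [pow_one]) (by rwa [pow_one])) (hvanD _ (orderOf (f : Q)) ?_ ?_)))
    · rw [hc.mul_pow, pow_orderOf_eq_one, mul_one]
      exact S.pow_mem htS _
    · rw [hc.mul_pow, pow_orderOf_eq_one, mul_one, Ne, ← orderOf_dvd_iff_pow_eq_one,
        orderOf_eq_prime (hSexp t htS) ht1]
      exact hnd
  -- conclusion
  have hsup : IsPGroup p ↥(P.map mk ⊔ Ub) := (hP.map mk).to_sup_of_normal_right hUp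
  have hle : P.map mk ≤ Ub := by
    intro x hx
    rw [← hRU]
    refine hCR (Subgroup.mem_centralizer_iff.2 fun u hu => ?_)
    rw [SetLike.mem_coe, hRU] at hu
    haveI := hsup.isNilpotent
    have hne : Ub.subgroupOf (P.map mk ⊔ Ub) ≠ ⊥ := by
      rw [Ne, Subgroup.subgroupOf_eq_bot, disjoint_iff, inf_eq_left.2 le_sup_right]
      exact hU0
    obtain ⟨⟨z, hz⟩, hz1⟩ := Subgroup.ne_bot_iff_exists_ne_one.1
      (SolvStruct.inf_center_ne_bot (N := Ub.subgroupOf (P.map mk ⊔ Ub)) hne)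
    obtain ⟨hzU, hzc⟩ := Subgroup.mem_inf.1 hz
    obtain ⟨a, ha, hau⟩ := hlift (z : X) hzU
    have ha1 : a ≠ 1 := fun h => hz1 (Subtype.ext (Subtype.ext (by rw [← hau, h, map_one]; rfl)))
    have hzP : Subgroup.zpowers a = P0 := Subgroup.eq_of_le_of_card_ge (Subgroup.zpowers_le.2 ha)
      (by rw [hcardP0, Nat.card_zpowers, orderOf_eq_prime (hPexp a ha) ha1])
    obtain ⟨b, hb, rfl⟩ := hlift u hu
    obtain ⟨k, rfl⟩ := Subgroup.mem_zpowers_iff.1 (hzP.symm ▸ hb : b ∈ Subgroup.zpowers a)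
    rw [map_zpow, hau]
    have hc : Commute x (z : X) :=
      congrArg Subtype.val (Subgroup.mem_center_iff.1 hzc ⟨x, Subgroup.mem_sup_left hx⟩)
    exact (hc.zpow_right k).symm
  rw [← hcardP0]
  refine Nat.card_le_card_of_injective
    (fun a : ↥P => (⟨_, (hlift _ (hle (Subgroup.mem_map_of_mem mk a.2))).choose_spec.1⟩ : ↥P0)) ?_
  intro a b hab
  have hab' := congrArg Subtype.val hab
  simp only at hab'
  have ea := (hlift _ (hle (Subgroup.mem_map_of_mem mk a.2))).choose_spec.2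
  have eb := (hlift _ (hle (Subgroup.mem_map_of_mem mk b.2))).choose_spec.2
  have e2 : mk (a : Q) = mk (b : Q) := (ea.symm.trans (congrArg mk hab')).trans eb
  exact Subtype.ext (inv_mul_eq_one.1
    (hPN _ (P.mul_mem (P.inv_mem a.2) b.2) (QuotientGroup.eq.1 e2)))

/-- The image of a Sylow subgroup modulo the `p`-core. -/
theorem card_map_le {G : Type u} [Group G] [Finite G] [Group.IsSolvable G]
    (hsame : ∀ x y : G, Van x → Van y → p ∣ orderOf x → p ∣ orderOf y → orderOf x = orderOf y)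
    (P : Subgroup G) (hP : IsPGroup p ↥P) :
    Nat.card ↥(P.map (QuotientGroup.mk' (Cfsg.pCore p G))) ≤ p := by
  set O := Cfsg.pCore p G with hO
  set π := QuotientGroup.mk' O with hπ
  have hπs : Function.Surjective π := QuotientGroup.mk'_surjective O
  refine card_le (PBasic.pCore_quotient_pCore p G) ?_ ?_ (hP.map π)
  · intro x y hx hy hxp hyp hy1
    obtain ⟨a, rfl⟩ := hπs x
    obtain ⟨b, rfl⟩ := hπs y
    have hb : b ^ p ∈ O := (QuotientGroup.eq_one_iff _).1 ((map_pow π b p).trans hyp)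
    obtain ⟨k, hk⟩ := PBasic.pCore_isPGroup p G ⟨_, hb⟩
    have hk' : (b ^ p) ^ p ^ k = 1 := congrArg Subtype.val hk
    rw [← pow_mul, ← pow_succ'] at hk'
    have hab := hsame a b (Van.of_map π hπs hx) (Van.of_map π hπs hy)
      (hxp.trans (orderOf_map_dvd π a))
      ((orderOf_eq_prime hyp hy1).symm.dvd.trans (orderOf_map_dvd π b))
    refine ⟨k + 1, ?_⟩
    rw [← map_pow, orderOf_dvd_iff_pow_eq_one.1 (hab ▸ orderOf_dvd_of_pow_eq_one hk'), map_one]
  · intro r hr hrp hd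
    obtain ⟨a, rfl⟩ := hπs r
    rw [← map_pow] at hrp hd
    have hd' : p ∣ orderOf (a ^ p) := hd.trans (orderOf_map_dvd π (a ^ p))
    have hda : p ∣ orderOf a := hd'.trans (orderOf_pow_dvd p)
    have heq := hsame a (a ^ p) (Van.of_map π hπs hr) (Van.of_map π hπs hrp) hda hd'
    rw [orderOf_pow_of_dvd hp.out.ne_zero hda] at heq
    exact absurd heq.symm (Nat.div_lt_self (orderOf_pos a) hp.out.one_lt).ne

end Cfsg.Agent.OneOrder
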