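import Cfsg.Agent.Lib.PrimClass.FixedPoints
import Mathlib.GroupTheory.Commutator.Basic

/-!
# A regular vector for a small group of exponent `p`

A group of exponent `p` of automorphisms of a module of order prime to `p`, whose commutators are
powers of a central element without fixed points, has a vector with trivial stabiliser.
-/

set_option autoImplicit false
set_option linter.style.haveILetI false
set_option linter.unusedSectionVars false

namespace Cfsg.Agent.OneOrder

universe u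

section

variable {V : Type u} [CommGroup V] [Finite V] {p : ℕ} [hp : Fact p.Prime]

/-- The product over the powers of an automorphism. -/
noncomputable def orbProd (p : ℕ) (y : MulAut V) : V →* V where
  toFun w := ∏ i ∈ Finset.range p, (y ^ i) w
  map_one' := Finset.prod_eq_one fun i _ => map_one _
  map_mul' v w := by
    rw [← Finset.prod_mul_distrib]
    exact Finset.prod_congr rfl fun i _ => map_mul _ v w

theorem orbProd_fixed {y : MulAut V} (hy : y ^ p = 1) (w : V) :
    y (orbProd p y w) = orbProd p y w := by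
  show y (∏ i ∈ Finset.range p, (y ^ i) w) = ∏ i ∈ Finset.range p, (y ^ i) w
  rw [map_prod]
  have e := Finset.prod_range_succ' (fun i => (y ^ i) w) p
  rw [Finset.prod_range_succ, hy, pow_zero] at e
  simp only [pow_succ', MulAut.mul_apply] at e
  exact (mul_right_cancel e).symm

theorem orbProd_of_fixed {y : MulAut V} {w : V} (h : y w = w) : orbProd p y w = w ^ p := by
  have hi : ∀ i : ℕ, (y ^ i) w = w := fun i => by
    induction i with
    | zero => rfl
    | succ i ih => rw [pow_succ, MulAut.mul_apply, h, ih]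
  show (∏ i ∈ Finset.range p, (y ^ i) w) = w ^ p
  rw [Finset.prod_congr rfl fun i _ => hi i, Finset.prod_const, Finset.card_range]

theorem pow_eq_pow_of_modEq {G : Type*} [Monoid G] {c : G} (hc : c ^ p = 1) {a b : ℕ}
    (h : a % p = b % p) : c ^ a = c ^ b := by
  rw [pow_eq_pow_mod a hc, pow_eq_pow_mod b hc, h]

theorem exists_pow_inv {G : Type*} [Monoid G] {c : G} (hc : c ^ p = 1) {a : ℕ} (ha : ¬ p ∣ a) :
    ∃ b : ℕ, (c ^ a) ^ b = c := by
  obtain ⟨b, -, hb⟩ := Nat.exists_mul_mod_eq_one_of_coprime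
    ((hp.out.coprime_iff_not_dvd).2 ha).symm hp.out.one_lt
  exact ⟨b, by rw [← pow_mul, pow_eq_pow_mod _ hc, hb, pow_one]⟩

theorem fixed_pow {y : MulAut V} {w : V} (h : y w = w) (b : ℕ) : (y ^ b) w = w := by
  induction b with
  | zero => rfl
  | succ b ih => rw [pow_succ, MulAut.mul_apply, h, ih]

/-- Powers of a fixed-point-free automorphism of order `p` are fixed-point-free. -/
theorem pow_fpf {c : MulAut V} (hc : c ^ p = 1) (hfix : ∀ w, c w = w → w = 1) {a : ℕ}
    (ha : ¬ p ∣ a) {w : V} (hw : (c ^ a) w = w) : w = 1 := by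
  obtain ⟨b, hb⟩ := exists_pow_inv hc ha
  exact hfix w (by rw [← hb]; exact fixed_pow hw b)

/-- The projections onto the fixed points of the `x * c ^ k` sum up to `p`. -/
theorem prod_orbProd {x c : MulAut V} (hxc : Commute x c) (hc : c ^ p = 1)
    (hcf : ∀ w, c w = w → w = 1) (w : V) :
    ∏ k ∈ Finset.range p, orbProd p (x * c ^ k) w = w ^ p := by
  show (∏ k ∈ Finset.range p, ∏ i ∈ Finset.range p, ((x * c ^ k) ^ i) w) = w ^ p
  rw [Finset.prod_comm, Finset.prod_eq_single 0]
  · simp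
  · intro i hi hi0
    have e : ∀ k : ℕ, ((x * c ^ k) ^ i) w = (x ^ i) (((c ^ i) ^ k) w) := fun k => by
      rw [(hxc.pow_right k).mul_pow, MulAut.mul_apply, pow_right_comm c k i]
    rw [Finset.prod_congr rfl fun k _ => e k, ← map_prod]
    have h1 : orbProd p (c ^ i) w = 1 := by
      refine pow_fpf hc hcf (a := i) (fun hdiv => hi0 (Nat.eq_zero_of_dvd_of_lt hdiv
        (Finset.mem_range.1 hi))) (orbProd_fixed ?_ w)
      rw [← pow_mul, mul_comm, pow_mul, hc, one_pow]
    show (x ^ i) (orbProd p (c ^ i) w) = 1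
    rw [h1, map_one]
  · exact fun h => absurd (Finset.mem_range.2 hp.out.pos) h

theorem eq_of_pow_eq (hV : ¬ p ∣ Nat.card V) {u w : V} (h : u ^ p = w ^ p) : u = w :=
  (powCoprime (G := V) ((hp.out.coprime_iff_not_dvd).2 hV).symm).injective h

end

variable {p : ℕ} [hp : Fact p.Prime]

/-- The abelian case. -/
theorem exists_regular_abelian {V : Type u} [CommGroup V] [Finite V] (hV : ¬ p ∣ Nat.card V)
    (A : Subgroup (MulAut V)) (hcomm : ∀ a ∈ A, ∀ b ∈ A, a * b = b * a)
    (hexp : ∀ a ∈ A, a ^ p = 1) (hfix : ∀ v : V, (∀ a ∈ A, a v = v) → v = 1) :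
    ∃ v : V, ∀ a ∈ A, a v = v → a = 1 := by
  classical
  haveI : Finite (MulAut V) := Finite.of_injective (fun f : MulAut V => (f : V → V)) DFunLike.coe_injective
  have hco : (Nat.card V).Coprime p := ((hp.out.coprime_iff_not_dvd).2 hV).symm
  haveI := Fintype.ofFinite (PrimClass.Hyp A p)
  have hsel : ∀ B : PrimClass.Hyp A p, ∃ u ∈ PrimClass.part A p B,
      u = 1 → PrimClass.part A p B = ⊥ := by
    intro B
    by_cases h : PrimClass.part A p B = ⊥
    · exact ⟨1, one_mem _, fun _ => h⟩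
    · obtain ⟨u, hu, hu1⟩ := Subgroup.ne_bot_iff_exists_ne_one.1 h |> fun ⟨x, hx⟩ =>
        (⟨x, x.2, fun e => hx (Subtype.ext e)⟩ : ∃ u, u ∈ PrimClass.part A p B ∧ u ≠ 1)
      exact ⟨u, hu, fun e => absurd e hu1⟩
  choose u hu hu1 using hsel
  refine ⟨∏ B, u B, fun a ha hfixv => ?_⟩
  have hproj : ∀ B, PrimClass.proj A B.1 (∏ B', u B') = u B ^ Nat.card B.1 := by
    intro B
    rw [map_prod, Finset.prod_eq_single B]
    · exact PrimClass.proj_of_fixed A fun c hc => PrimClass.part_fixed A p (hu B) hc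
    · intro B' _ hne
      obtain ⟨w, hw⟩ := hu B'
      rw [← hw]
      exact PrimClass.proj_proj_ne A p hcomm hfix (Ne.symm hne) w
    · exact fun h => absurd (Finset.mem_univ B) h
  have hmem : ∀ B : PrimClass.Hyp A p, PrimClass.part A p B ≠ ⊥ → (⟨a, ha⟩ : ↥A) ∈ B.1 := by
    intro B hB
    by_contra haB
    refine hB (hu1 B ?_)
    have hfa : a (u B ^ Nat.card B.1) = u B ^ Nat.card B.1 := by
      rw [← hproj, PrimClass.proj_comm A hcomm B.1 ⟨a, ha⟩]
      exact congrArg _ hfixv
    obtain ⟨k, hk⟩ : ∃ k, Nat.card B.1 = p ^ k := IsPGroup.iff_card.1 fun x => ⟨1, by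
      rw [pow_one]; exact Subtype.ext (Subtype.ext (hexp _ (x : ↥A).2))⟩
    have hau : a (u B) = u B := by
      rw [map_pow] at hfa
      exact (powCoprime (G := V) (show (Nat.card V).Coprime (Nat.card B.1) by
        rw [hk]; exact hco.pow_right k)).injective hfa
    let T : Subgroup ↥A :=
      { carrier := {d | (d : MulAut V) (u B) = u B}
        one_mem' := rfl
        mul_mem' := fun {a b} (ha : _ = _) (hb : _ = _) => by
          show ((a : MulAut V) * (b : MulAut V)) _ = _
          rw [MulAut.mul_apply, hb, ha]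
        inv_mem' := fun {a} (ha : _ = _) => by
          show ((a : MulAut V))⁻¹ _ = _
          conv_lhs => rw [← ha]
          exact (a : MulAut V).symm_apply_apply _ }
    have hBT : B.1 ≤ T := fun d hd => PrimClass.part_fixed A p (hu B) hd
    have hd := Subgroup.index_dvd_of_le hBT
    rw [B.2] at hd
    rcases (Nat.dvd_prime hp.out).1 hd with h0 | h0
    · refine hfix _ fun d hd => ?_
      have : (⟨d, hd⟩ : ↥A) ∈ T := by rw [Subgroup.index_eq_one.1 h0]; exact Subgroup.mem_top _
      exact this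
    · exfalso
      have hTB : T = B.1 := by
        refine (Subgroup.eq_of_le_of_card_ge hBT ?_).symm
        have e1 := B.1.card_mul_index
        have e2 := T.card_mul_index
        rw [B.2] at e1
        rw [h0] at e2
        exact (Nat.eq_of_mul_eq_mul_right hp.out.pos (e2.trans e1.symm)).le
      exact haB (hTB ▸ (hau : (⟨a, ha⟩ : ↥A) ∈ T))
  refine MulEquiv.ext fun w => ?_
  refine PrimClass.injective_projs A p hcomm hexp hco hfix (funext fun B => ?_)
  show PrimClass.proj A B.1 (a w) = PrimClass.proj A B.1 w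
  rw [← PrimClass.proj_comm A hcomm B.1 ⟨a, ha⟩]
  by_cases hB : PrimClass.part A p B = ⊥
  · have h1 : PrimClass.proj A B.1 w = 1 := Subgroup.mem_bot.1 (hB ▸ ⟨w, rfl⟩)
    rw [h1, map_one]
  · exact PrimClass.proj_apply_mem A (hmem B hB) w

/-- The general case. -/
theorem exists_regular : ∀ (n : ℕ) (V : Type u) [CommGroup V] [Finite V], ¬ p ∣ Nat.card V →
    ∀ (H : Subgroup (MulAut V)) (z : MulAut V), z ∈ H → (∀ h ∈ H, h ^ p = 1) →
    (∀ h ∈ H, h * z = z * h) → (∀ a ∈ H, ∀ b ∈ H, ∃ k : ℕ, a * b * a⁻¹ * b⁻¹ = z ^ k) →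
    (∀ v, z v = v → v = 1) → Nat.card H = n → ∃ v, ∀ h ∈ H, h v = v → h = 1 := by
  intro n
  induction n using Nat.strong_induction_on with
  | _ n ih =>
  intro V _ _ hV H z hzH hexp hzc hcom hzf hn
  classical
  haveI : Finite (MulAut V) := Finite.of_injective (fun f : MulAut V => (f : V → V)) DFunLike.coe_injective
  by_cases hab : ∀ a ∈ H, ∀ b ∈ H, a * b = b * a
  · exact exists_regular_abelian hV H hab hexp fun v hv => hzf v (hv z hzH)
  push Not at hab
  obtain ⟨d, hd, x, hx, hdx⟩ := hab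
  have hp3 : 3 ≤ p := by
    rcases Nat.lt_or_ge p 3 with h | h
    · exfalso
      have h2 : p = 2 := le_antisymm (by omega) hp.out.two_le
      subst h2
      have hinv : ∀ h ∈ H, h⁻¹ = h := fun h hh => inv_eq_of_mul_eq_one_right (by
        rw [← sq]; exact hexp h hh)
      refine hdx ?_
      conv_lhs => rw [← hinv _ (H.mul_mem hd hx), mul_inv_rev, hinv d hd, hinv x hx]
    · exact h
  obtain ⟨a₀, ha₀⟩ := hcom d hd x hx
  set c := z ^ a₀ with hc
  have hzp := hexp z hzH
  have ha₀p : ¬ p ∣ a₀ := by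
    rintro ⟨t, rfl⟩
    have hc1 : c = 1 := by rw [hc, pow_mul, hzp, one_pow]
    rw [hc1, mul_inv_eq_one, mul_inv_eq_iff_eq_mul] at ha₀
    exact hdx ha₀
  have hcp : c ^ p = 1 := by rw [hc, ← pow_mul, mul_comm, pow_mul, hzp, one_pow]
  have hcH : c ∈ H := H.pow_mem hzH a₀
  have hcc : ∀ h ∈ H, Commute h c := fun h hh => Commute.pow_right (hzc h hh) a₀
  have hcf : ∀ v, c v = v → v = 1 := fun v hv => pow_fpf hzp hzf ha₀p hv
  obtain ⟨b₀, hb₀⟩ := exists_pow_inv hzp ha₀p
  have hcomc : ∀ a ∈ H, ∀ b ∈ H, ∃ k : ℕ, a * b * a⁻¹ * b⁻¹ = c ^ k := fun a ha b hb => by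
    obtain ⟨k, hk⟩ := hcom a ha b hb
    exact ⟨b₀ * k, by rw [hk, pow_mul, hc, hb₀]⟩
  have hdxc : d * x * d⁻¹ = x * c := by
    rw [mul_inv_eq_iff_eq_mul] at ha₀
    rw [ha₀, (hcc x hx).eq]
  have hdk : ∀ k : ℕ, d ^ k * x = x * c ^ k * d ^ k := by
    intro k
    induction k with
    | zero => simp
    | succ k ih =>
      rw [pow_succ', mul_assoc, ih]
      have h1 : d * x = x * c * d := mul_inv_eq_iff_eq_mul.1 hdxc
      calc d * (x * c ^ k * d ^ k) = (d * x) * c ^ k * d ^ k := by simp only [mul_assoc]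
        _ = x * c * (d * c ^ k) * d ^ k := by rw [h1]; simp only [mul_assoc]
        _ = x * c * (c ^ k * d) * d ^ k := by rw [((hcc d hd).pow_right k).eq]
        _ = x * c ^ (k + 1) * (d * d ^ k) := by rw [pow_succ']; simp only [mul_assoc]
        _ = _ := by rw [← pow_succ']
  have hyp : ∀ k : ℕ, (x * c ^ k) ^ p = 1 := fun k => hexp _ (H.mul_mem hx (H.pow_mem hcH k))
  -- the projections
  have hoff : ∀ (k j : ℕ) (w : V), k % p ≠ j % p → (x * c ^ j) w = w →
      orbProd p (x * c ^ k) w = 1 := by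
    intro k j w hkj hw
    obtain ⟨m, hm, hmc⟩ : ∃ m, ¬ p ∣ m ∧ c ^ k = c ^ j * c ^ m := by
      refine ⟨k + (p * j - j), fun hdiv => hkj ?_, ?_⟩
      · have hle : j ≤ p * j := Nat.le_mul_of_pos_left j hp.out.pos
        have h0 : (k + (p * j - j) + j) % p = j % p := by
          rw [Nat.add_mod, Nat.mod_eq_zero_of_dvd hdiv, zero_add, Nat.mod_mod]
        rwa [add_assoc, Nat.sub_add_cancel hle, Nat.add_mul_mod_self_left] at h0
      · rw [← pow_add]
        refine pow_eq_pow_of_modEq hcp ?_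
        have hle : j ≤ p * j := Nat.le_mul_of_pos_left j hp.out.pos
        rw [show j + (k + (p * j - j)) = k + p * j by omega, Nat.add_mul_mod_self_left]
    have hy : x * c ^ k = c ^ m * (x * c ^ j) := by
      rw [hmc, ← mul_assoc]
      exact ((((hcc x hx).mul_left ((Commute.refl c).pow_left j))).pow_right m).eq
    have hcom' : Commute (c ^ m) (x * c ^ j) :=
      ((((hcc x hx).mul_left ((Commute.refl c).pow_left j))).pow_right m).symm
    have hterm : orbProd p (x * c ^ k) w = orbProd p (c ^ m) w := by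
      show (∏ i ∈ Finset.range p, ((x * c ^ k) ^ i) w) = ∏ i ∈ Finset.range p, ((c ^ m) ^ i) w
      refine Finset.prod_congr rfl fun i _ => ?_
      rw [hy, hcom'.mul_pow, MulAut.mul_apply, fixed_pow hw i]
    rw [hterm]
    refine pow_fpf hcp hcf hm (orbProd_fixed ?_ w)
    rw [← pow_mul, mul_comm, pow_mul, hcp, one_pow]
  have hid : ∀ w : V, ∏ k ∈ Finset.range p, orbProd p (x * c ^ k) w = w ^ p :=
    prod_orbProd (hcc x hx) hcp hcf
  -- the translates of the fixed points of `x`
  have htrans : ∀ (k : ℕ) (w : V), (x * c ^ k) w = w → x ((d ^ k)⁻¹ w) = (d ^ k)⁻¹ w := by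
    intro k w hw
    apply (d ^ k).injective
    rw [← MulAut.mul_apply, hdk, MulAut.mul_apply, MulAut.apply_inv_self, hw]
  have hback : ∀ (k : ℕ) (w : V), x w = w → (x * c ^ k) ((d ^ k) w) = (d ^ k) w := by
    intro k w hw
    rw [← MulAut.mul_apply, ← hdk, MulAut.mul_apply, hw]
  -- the stabiliser of the fixed points
  set W := PrimClass.fixG x with hW
  let C : Subgroup (MulAut V) := H ⊓ Subgroup.centralizer ({x} : Set (MulAut V))
  have hCW : ∀ g ∈ C, ∀ w ∈ W, g w ∈ W := by
    intro g hg w hw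
    rw [hW, PrimClass.mem_fixG] at hw ⊢
    rw [← MulAut.mul_apply, ← Subgroup.mem_centralizer_singleton_iff.1 hg.2, MulAut.mul_apply, hw]
  let res : ↥C →* MulAut ↥W :=
    { toFun := fun g =>
        { toFun := fun w => ⟨(g : MulAut V) w, hCW g g.2 w w.2⟩
          invFun := fun w => ⟨((g : MulAut V))⁻¹ w, hCW _ (C.inv_mem g.2) w w.2⟩
          left_inv := fun w => Subtype.ext (MulEquiv.symm_apply_apply _ _)
          right_inv := fun w => Subtype.ext (MulEquiv.apply_symm_apply _ _)
          map_mul' := fun v w => Subtype.ext (map_mul (g : MulAut V) (v : V) w) }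
      map_one' := by ext w; rfl
      map_mul' := fun g k => by ext w; rfl }
  have hres : ∀ (g : ↥C) (w : ↥W), (res g w : V) = (g : MulAut V) w := fun g w => rfl
  have hzC : z ∈ C := ⟨hzH, Subgroup.mem_centralizer_singleton_iff.2 (hzc x hx).symm⟩
  have hCH : Nat.card ↥C < n := by
    rw [← hn]
    refine lt_of_le_of_ne (Nat.card_le_card_of_injective _
      (Subgroup.inclusion_injective (inf_le_left : C ≤ H))) fun e => ?_
    have hCH' : C = H := Subgroup.eq_of_le_of_card_ge inf_le_left e.ge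
    have : d ∈ C := hCH'.symm ▸ hd
    exact hdx (Subgroup.mem_centralizer_singleton_iff.1 this.2)
  haveI : Finite (MulAut ↥W) := Finite.of_injective (fun f : MulAut ↥W => (f : ↥W → ↥W))
    DFunLike.coe_injective
  obtain ⟨v₀, hv₀⟩ := ih (Nat.card res.range)
    ((Nat.card_le_card_of_surjective _ res.rangeRestrict_surjective).trans_lt hCH) ↥W
    (fun h => hV (h.trans (Subgroup.card_subgroup_dvd_card W)))
    res.range (res ⟨z, hzC⟩) ⟨_, rfl⟩
    (by rintro _ ⟨g, rfl⟩; rw [← map_pow, show g ^ p = 1 from Subtype.ext (hexp _ g.2.1), map_one])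
    (by
      rintro _ ⟨g, rfl⟩
      rw [← map_mul, ← map_mul]
      exact congrArg res (Subtype.ext (hzc _ g.2.1)))
    (by
      rintro _ ⟨g, rfl⟩ _ ⟨g', rfl⟩
      obtain ⟨k, hk⟩ := hcom _ g.2.1 _ g'.2.1
      exact ⟨k, by
        rw [← map_inv, ← map_inv, ← map_mul, ← map_mul, ← map_mul, ← map_pow]
        exact congrArg res (Subtype.ext hk)⟩)
    (fun v hv => Subtype.ext (hzf v (congrArg Subtype.val hv))) rfl
  have hv₀x : x v₀ = v₀ := v₀.2
  have hv₀1 : (v₀ : V) ≠ 1 := by
    intro h1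
    have hzt : res ⟨z, hzC⟩ = 1 := hv₀ _ ⟨_, rfl⟩ (by
      rw [show v₀ = 1 from Subtype.ext h1, map_one])
    have hWbot : ∀ w : V, x w = w → w = 1 := fun w hw =>
      hzf w (congrArg Subtype.val (DFunLike.congr_fun hzt ⟨w, hw⟩))
    have hVtriv : ∀ w : V, w = 1 := by
      intro w
      refine eq_of_pow_eq hV ((hid w).symm.trans ((Finset.prod_eq_one fun k _ => ?_).trans
        (one_pow p).symm))
      have h := hWbot _ (htrans k _ (orbProd_fixed (hyp k) w))
      rw [← (d ^ k).apply_symm_apply (orbProd p (x * c ^ k) w)]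
      exact (congrArg (d ^ k) h).trans (map_one _)
    refine hdx ?_
    ext w
    rw [hVtriv ((d * x) w), hVtriv ((x * d) w)]
  have hdv : (x * c ^ 1) (d v₀) = d v₀ := by
    have := hback 1 v₀ hv₀x
    rwa [pow_one (a := d)] at this
  have hx0 : (x * c ^ 0) (v₀ : V) = v₀ := by rwa [pow_zero, mul_one]
  refine ⟨(v₀ : V) * d v₀, fun h hh hfixh => ?_⟩
  obtain ⟨a, ha⟩ := hcomc h hh x hx
  have hxh : h * x = x * c ^ a * h := by
    rw [mul_inv_eq_iff_eq_mul, mul_inv_eq_iff_eq_mul] at ha
    rw [ha, ((hcc x hx).pow_right a).eq]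
  have hA0 : (x * c ^ a) (h v₀) = h v₀ := by
    rw [← MulAut.mul_apply, ← hxh, MulAut.mul_apply, hv₀x]
  have hA1 : (x * c ^ (a + 1)) (h (d v₀)) = h (d v₀) := by
    have e : x * c ^ (a + 1) * h = h * (x * c ^ 1) := by
      rw [← mul_assoc h, hxh, pow_add]
      simp only [mul_assoc]
      rw [((hcc h hh).pow_right 1).eq]
    rw [← MulAut.mul_apply, e, MulAut.mul_apply, hdv]
  have hPh : ∀ k : ℕ, orbProd p (x * c ^ k) (h (v₀ : V)) * orbProd p (x * c ^ k) (h (d (v₀ : V))) =
      orbProd p (x * c ^ k) (v₀ : V) * orbProd p (x * c ^ k) (d (v₀ : V)) := fun k => by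
    rw [← map_mul, ← map_mul, ← map_mul, hfixh]
  have h01 : (1 : ℕ) % p = 1 := Nat.mod_eq_of_lt (by omega)
  have hap : p ∣ a := by
    by_contra hap
    have hamod : a % p ≠ 0 := fun e => hap (Nat.dvd_of_mod_eq_zero e)
    have hlt := Nat.mod_lt a hp.out.pos
    by_cases ha1 : a % p = 1
    · have e1 : (a + 1) % p = 2 := by
        rw [Nat.add_mod, ha1, h01, Nat.mod_eq_of_lt (by omega)]
      have he := hPh (a + 1)
      rw [hoff (a + 1) a _ (by omega) hA0, orbProd_of_fixed hA1,
        hoff (a + 1) 0 _ (by rw [e1, Nat.zero_mod]; omega) hx0, hoff (a + 1) 1 _ (by omega) hdv,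
        one_mul, one_mul, ← one_pow p] at he
      have h' := eq_of_pow_eq hV he
      rw [← MulAut.mul_apply, map_eq_one_iff _ (h * d).injective] at h'
      exact hv₀1 h'
    · have e1 : (a + 1) % p ≠ a % p := by
        intro e
        have e2 : Nat.ModEq p (a + 1) (a + 0) := e
        have := Nat.ModEq.add_left_cancel' a e2
        rw [Nat.modEq_zero_iff_dvd] at this
        exact hp.out.ne_one (Nat.dvd_one.1 this)
      have he := hPh a
      rw [hoff a (a + 1) _ (Ne.symm e1) hA1, orbProd_of_fixed hA0,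
        hoff a 0 _ (by rw [Nat.zero_mod]; exact hamod) hx0, hoff a 1 _ (by rw [h01]; exact ha1) hdv,
        mul_one, one_mul, ← one_pow p] at he
      have h' := eq_of_pow_eq hV he
      rw [map_eq_one_iff _ h.injective] at h'
      exact hv₀1 h'
  obtain ⟨t, rfl⟩ := hap
  rw [pow_mul, hcp, one_pow, mul_one] at hxh
  have hcpt : c ^ (p * t) = 1 := by rw [pow_mul, hcp, one_pow]
  have hhC : h ∈ C := ⟨hh, Subgroup.mem_centralizer_singleton_iff.2 hxh⟩
  have h0 : h v₀ = v₀ := by
    have e := hPh 0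
    rw [orbProd_of_fixed (show (x * c ^ 0) (h v₀) = h v₀ by
        rw [pow_zero, ← hcpt]; exact hA0),
      hoff 0 (p * t + 1) _ (by rw [Nat.zero_mod, Nat.mul_add_mod, h01]; omega) hA1,
      orbProd_of_fixed hx0, hoff 0 1 _ (by rw [Nat.zero_mod, h01]; omega) hdv, mul_one, mul_one] at e
    exact eq_of_pow_eq hV e
  have h1 : h (d v₀) = d v₀ := by
    rw [map_mul, h0] at hfixh
    exact mul_left_cancel hfixh
  have htriv : ∀ g (hg : g ∈ C), g v₀ = v₀ → ∀ w : V, x w = w → g w = w := fun g hg hgv w hw => by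
    have := hv₀ (res ⟨g, hg⟩) ⟨_, rfl⟩ (Subtype.ext hgv)
    exact congrArg Subtype.val (DFunLike.congr_fun this ⟨w, hw⟩)
  obtain ⟨b, hb⟩ := hcomc _ (H.inv_mem hd) h hh
  rw [inv_inv, mul_inv_eq_iff_eq_mul] at hb
  -- `d⁻¹ h d = c^b h` fixes `v₀`
  have hcbC : c ^ b ∈ C :=
    ⟨H.pow_mem hcH b, Subgroup.mem_centralizer_singleton_iff.2 ((hcc x hx).pow_right b).eq.symm⟩
  have hcb : c ^ b = 1 := by
    by_contra hne
    have hbp : ¬ p ∣ b := fun ⟨t, ht⟩ => hne (by rw [ht, pow_mul, hcp, one_pow])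
    refine hv₀1 (pow_fpf hcp hcf hbp ?_)
    have e : (c ^ b * h) v₀ = v₀ := by
      rw [← hb, MulAut.mul_apply, MulAut.mul_apply, h1, MulAut.inv_apply_self]
    rwa [MulAut.mul_apply, h0] at e
  have hdh : Commute d h := by
    rw [hcb, one_mul, mul_assoc, inv_mul_eq_iff_eq_mul] at hb
    exact hb.symm
  ext w
  refine eq_of_pow_eq hV ?_
  rw [← map_pow, ← hid w, map_prod]
  refine (Finset.prod_congr rfl fun k _ => ?_).trans (hid w)
  have e := htriv h hhC h0 _ (htrans k _ (orbProd_fixed (hyp k) w))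
  have e2 := congrArg (d ^ k) e
  rw [← MulAut.mul_apply, (hdh.pow_left k).eq, MulAut.mul_apply, MulAut.apply_inv_self] at e2
  exact e2

end Cfsg.Agent.OneOrder
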